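import Cfsg.Agent.Lib.CentU34.Presentation
import Cfsg.Agent.Lib.Unitary.SylowThree

/-!
# The centralizer of an involution in `SU₃(4)`

`exists_rel`: in `SU₃(4)` an involution centralized by elements satisfying `Rel`, with centralizer of
order at most 320 and `c₁, c₂, c₁ c₂` non-trivial.
-/

set_option autoImplicit false
set_option linter.unusedSectionVars false

open Matrix
open scoped commutatorElement

namespace Cfsg.Agent.CentU34

open Cfsg.Agent.Unitary

variable {F : Type*} [Field F] [Fintype F] (hF : Fintype.card F = 4 ^ 2) (h2 : (2 : F) = 0)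

/-- The element of `SU₃(4)` with coordinates `(a, b)`. -/
def mk (a b : F) (h : b + b ^ 4 = a ^ (4 + 1)) : Cfsg.SU 3 F 4 := ⟨sl3 h2 a b, sl3_mem_SU hF h2 h⟩

theorem mk_coe (a b : F) (h : b + b ^ 4 = a ^ (4 + 1)) :
    ((mk hF h2 a b h).1 : Matrix (Fin 3) (Fin 3) F) = mat3 4 a b := rfl

theorem mk_congr {a b a' b' : F} {h : b + b ^ 4 = a ^ (4 + 1)} {h' : b' + b' ^ 4 = a' ^ (4 + 1)}
    (ha : a = a') (hb : b = b') : mk hF h2 a b h = mk hF h2 a' b' h' := by subst ha hb; rfl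

theorem mk_mul {a b a' b' a'' b'' : F} (h : b + b ^ 4 = a ^ (4 + 1)) (h' : b' + b' ^ 4 = a' ^ (4 + 1))
    (h'' : b'' + b'' ^ 4 = a'' ^ (4 + 1)) (ha : a'' = a + a') (hb : b'' = b + b' + a ^ 4 * a') :
    mk hF h2 a b h * mk hF h2 a' b' h' = mk hF h2 a'' b'' h'' := by
  refine Subtype.ext (Subtype.ext ?_)
  rw [Subgroup.coe_mul, Matrix.SpecialLinearGroup.coe_mul, mk_coe, mk_coe, mk_coe, mat3_mul hF h2, ha, hb]

theorem mk_zero_eq_one {h : (0 : F) + (0 : F) ^ 4 = (0 : F) ^ (4 + 1)} : mk hF h2 0 0 h = 1 := by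
  refine Subtype.ext (Subtype.ext ?_)
  rw [mk_coe]; simp [mat3, Matrix.one_fin_three]

include hF h2 in
/-- Centralizer bound: the centralizer of the swap `mat3 0 1` has order at most 320. -/
theorem card_centralizer_le {t : Cfsg.SU 3 F 4} (ht : (t.1 : Matrix (Fin 3) (Fin 3) F) = mat3 4 0 1) :
    Nat.card (Subgroup.centralizer ({t} : Set (Cfsg.SU 3 F 4))) ≤ 320 := by
  classical
  have ht' : (t.1 : Matrix (Fin 3) (Fin 3) F) = !![0, 1, 0; 1, 0, 0; 0, 0, 1] := by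
    rw [ht, mat3]
    have e : (1 : F) + 1 = 0 := by linear_combination h2
    simp [e]
  have hsq : Function.Injective fun x : F => x ^ 2 := fun x y h => by
    have h3 : x ^ 2 = y ^ 2 := h
    have : (x - y) ^ 2 = 0 := by linear_combination h3 + (y ^ 2 - x * y) * h2
    exact sub_eq_zero.mp ((pow_eq_zero_iff two_ne_zero).mp this)
  have h4inj : Function.Injective fun x : F => x ^ 4 := fun x y h => hsq (hsq (by
    show (x ^ 2) ^ 2 = (y ^ 2) ^ 2
    rw [← pow_mul, ← pow_mul]; exact h))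
  -- the entries of a centralizing matrix
  have key : ∀ M : Subgroup.centralizer ({t} : Set (Cfsg.SU 3 F 4)), ∃ p r u s w : F,
      (M.1.1 : Matrix (Fin 3) (Fin 3) F) = !![p, r, s; r, p, s; u, u, w] ∧
      w ^ 5 = 1 ∧ (p + r) ^ 2 * w = 1 ∧ p * r ^ 4 + r * p ^ 4 + u ^ 5 = 0 ∧
      (p + r) * s ^ 4 + u * w ^ 4 = 0 := by
    rintro ⟨M, hM⟩
    set A : Matrix (Fin 3) (Fin 3) F := (M.1 : Matrix (Fin 3) (Fin 3) F) with hA
    have hc : A * !![0, 1, 0; 1, 0, 0; 0, 0, 1] = !![0, 1, 0; 1, 0, 0; 0, 0, 1] * A := by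
      rw [← ht', hA, ← Matrix.SpecialLinearGroup.coe_mul, ← Matrix.SpecialLinearGroup.coe_mul,
        ← Subgroup.coe_mul, ← Subgroup.coe_mul, Subgroup.mem_centralizer_singleton_iff.mp hM]
    have e00 := congrFun (congrFun hc 0) 1
    have e01 := congrFun (congrFun hc 0) 0
    have e02 := congrFun (congrFun hc 0) 2
    have e20 := congrFun (congrFun hc 2) 0
    simp [Matrix.mul_apply, Fin.sum_univ_three] at e00 e01 e02 e20
    have hAeq : A = !![A 0 0, A 0 1, A 0 2; A 0 1, A 0 0, A 0 2; A 2 0, A 2 0, A 2 2] := by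
      ext i j
      fin_cases i <;> fin_cases j <;> simp [e00, e01, e02, e20]
    have herm : ∀ i j : Fin 3, ∑ r : Fin 3, A r i * A r j ^ 4 = if i = j then 1 else 0 := by
      intro i j
      have h := M.2 (Pi.single i (1 : F)) (Pi.single j 1)
      simp only [Cfsg.hermForm] at h
      change ∑ r, (A *ᵥ Pi.single i (1 : F)) r * ((A *ᵥ Pi.single j (1 : F)) r) ^ 4 = _ at h
      simp only [Matrix.mulVec_single_one, Matrix.col_apply] at h
      rw [h, Finset.sum_eq_single i (fun b _ hb => by simp [hb]) (by simp)]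
      by_cases hij : i = j <;> simp [hij]
    have hdet : A.det = 1 := M.1.2
    generalize A 0 0 = p, A 0 1 = r, A 0 2 = s, A 2 0 = u, A 2 2 = w at hAeq
    rw [hAeq] at herm hdet
    have h22 := herm 2 2
    have h01 := herm 0 1
    have h02 := herm 0 2
    simp [Fin.sum_univ_three] at h22 h01 h02
    simp [Matrix.det_fin_three] at hdet
    exact ⟨p, r, u, s, w, hAeq, by linear_combination h22 - s * s ^ 4 * h2,
      by linear_combination hdet + (p * r * w + p * s * u + r ^ 2 * w - r * s * u) * h2,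
      by linear_combination h01, by linear_combination h02⟩
  choose p r u s w hMeq hw5 hdet h01 h02 using key
  let S : Finset (F × F × F) := Finset.univ.filter fun x =>
    x.1 ^ 5 = 1 ∧ ∃ r, (x.2.2 + r) ^ 2 * x.1 = 1 ∧ x.2.2 * r ^ 4 + r * x.2.2 ^ 4 + x.2.1 ^ 5 = 0
  let f : Subgroup.centralizer ({t} : Set (Cfsg.SU 3 F 4)) → S := fun M => ⟨(w M, u M, p M),
    Finset.mem_filter.mpr ⟨Finset.mem_univ _, hw5 M, r M, hdet M, h01 M⟩⟩
  have hf : Function.Injective f := by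
    intro M N h
    simp only [f, Subtype.mk.injEq, Prod.mk.injEq] at h
    obtain ⟨hw', hu', hp'⟩ := h
    have hw0 : w N ≠ 0 := fun e => by simpa [e] using hw5 N
    have hpr : p M + r M = p N + r N := hsq (mul_right_cancel₀ hw0 (show (p M + r M) ^ 2 * w N = _ by
      rw [← hw', hdet M, hw', hdet N]))
    have hr' : r M = r N := by rw [hp'] at hpr; exact add_left_cancel hpr
    have hk : p N + r N ≠ 0 := fun e => by simpa [e] using hdet N
    have hs' : s M = s N := h4inj (mul_left_cancel₀ hk (show (p N + r N) * s M ^ 4 = _ by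
      have e1 := h02 M
      rw [hpr, hu', hw'] at e1
      linear_combination e1 - h02 N))
    refine Subtype.ext (Subtype.ext (Subtype.ext ?_))
    rw [hMeq M, hMeq N, hw', hu', hp', hr', hs']
  refine (Nat.card_le_card_of_injective f hf).trans ?_
  rw [Nat.card_eq_fintype_card, Fintype.card_coe]
  let W : Finset F := (Polynomial.X ^ 5 - Polynomial.C (1 : F)).roots.toFinset
  have hW : W.card ≤ 5 := by
    refine (Multiset.toFinset_card_le _).trans ((Polynomial.card_roots' _).trans ?_)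
    rw [Polynomial.natDegree_X_pow_sub_C]
  let B : Finset (F × F) := W ×ˢ Finset.univ
  have hB : B.card ≤ 5 * 16 := by
    rw [Finset.card_product, Finset.card_univ, hF]
    exact Nat.mul_le_mul hW (by norm_num)
  let π : F × F × F → F × F := fun x => (x.1, x.2.1)
  have hmaps : ∀ x ∈ S, π x ∈ B := fun x hx => by
    have h5 := (Finset.mem_filter.mp hx).2.1
    refine Finset.mem_product.mpr ⟨Multiset.mem_toFinset.mpr ?_, Finset.mem_univ _⟩
    rw [Polynomial.mem_roots (Polynomial.X_pow_sub_C_ne_zero (by norm_num) 1)]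
    simp [Polynomial.IsRoot, π, h5]
  refine (Finset.card_le_mul_card_image_of_maps_to hmaps 4 ?_).trans (le_trans (Nat.mul_le_mul_left 4 hB) le_rfl)
  rintro ⟨w, u⟩ -
  by_cases hne : (S.filter fun x => π x = (w, u)) = ∅
  · simp [hne]
  obtain ⟨⟨w', u', p0⟩, h0⟩ := Finset.nonempty_of_ne_empty hne
  obtain ⟨h0S, h0π⟩ := Finset.mem_filter.mp h0
  simp only [π, Prod.mk.injEq] at h0π
  obtain ⟨rfl, rfl⟩ := h0π
  obtain ⟨hw5, r0, hd0, hn0⟩ := (Finset.mem_filter.mp h0S).2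
  simp only at hw5 hd0 hn0
  set k := p0 + r0 with hk
  have hk0 : k ≠ 0 := fun e => by simp [e] at hd0
  let P : Polynomial F := Polynomial.C k * Polynomial.X ^ 4 + Polynomial.C (k ^ 4) * Polynomial.X +
    Polynomial.C (u' ^ 5)
  have hP0 : P ≠ 0 := fun e => hk0 (by
    have := congrArg (fun Q => Polynomial.coeff Q 4) e
    simpa [P, ← map_pow, Polynomial.coeff_C, Polynomial.coeff_X] using this)
  have hdeg : P.natDegree ≤ 4 := by
    simp only [P]; compute_degree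
  refine le_trans ?_ ((Polynomial.card_roots' P).trans hdeg)
  refine le_trans ?_ (Multiset.toFinset_card_le _)
  refine Finset.card_le_card_of_injOn (fun x => x.2.2) ?_ ?_
  · intro x hx
    obtain ⟨hxS, hxπ⟩ := Finset.mem_filter.mp hx
    obtain ⟨x1, x2, x3⟩ := x
    simp only [π, Prod.mk.injEq] at hxπ
    obtain ⟨rfl, rfl⟩ := hxπ
    obtain ⟨-, r, hd, hn⟩ := (Finset.mem_filter.mp hxS).2
    simp only at hd hn
    have hx1 : x1 ≠ 0 := fun e => by simp [e] at hw5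
    have hkr : x3 + r = k := hsq (mul_right_cancel₀ hx1 (show (x3 + r) ^ 2 * x1 = _ from hd.trans hd0.symm))
    rw [Finset.mem_coe, Multiset.mem_toFinset, Polynomial.mem_roots hP0]
    simp only [Polynomial.IsRoot, P, Polynomial.eval_add, Polynomial.eval_mul, Polynomial.eval_C,
      Polynomial.eval_pow, Polynomial.eval_X]
    rw [← hkr]
    linear_combination hn + (x3 ^ 5 + 2 * x3 ^ 4 * r * 0 + 2 * x3 ^ 4 * r + 3 * x3 ^ 3 * r ^ 2 + 2 * x3 ^ 2 * r ^ 3) * h2
  · rintro ⟨a1, a2, a3⟩ ha ⟨b1, b2, b3⟩ hb (h : a3 = b3)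
    have e1 := (Finset.mem_filter.mp ha).2
    have e2 := (Finset.mem_filter.mp hb).2
    simp only [π, Prod.mk.injEq] at e1 e2
    simp [e1.1, e1.2, e2.1, e2.2, h]

include hF h2 in
theorem exists_rel : ∃ (t g v d₁ d₂ : Cfsg.SU 3 F 4), orderOf t = 2 ∧ Rel g v d₁ d₂ ∧
    d₁ ≠ 1 ∧ d₂ ≠ 1 ∧ d₁ * d₂ ≠ 1 ∧ g ≠ 1 ∧ t * g = g * t ∧ t * v = v * t ∧
    Nat.card (Subgroup.centralizer ({t} : Set (Cfsg.SU 3 F 4))) ≤ 320 := by
  classical
  have : Fact (Nat.Prime 5) := ⟨by norm_num⟩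
  obtain ⟨ζ, hζ⟩ := exists_prime_orderOf_dvd_card' (G := Fˣ) 5 (by
    rw [Nat.card_eq_fintype_card, Fintype.card_units, hF]; norm_num)
  set k : F := (ζ : F) with hk
  have hk5 : k ^ 5 = 1 := by
    rw [hk, ← Units.val_pow_eq_pow_val, ← hζ, pow_orderOf_eq_one, Units.val_one]
  have hk1 : k ≠ 1 := fun e => by
    rw [show ζ = 1 from Units.ext e, orderOf_one] at hζ; norm_num at hζ
  obtain ⟨l, hl⟩ : ∃ l, l = k ^ 2 := ⟨_, rfl⟩
  have hl5 : l ^ 5 = 1 := by rw [hl, ← pow_mul, mul_comm, pow_mul, hk5, one_pow]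
  have hl1 : l ≠ 1 := fun e => hk1 (by
    calc k = k ^ 5 * k := by rw [hk5, one_mul]
      _ = (k ^ 2) ^ 3 := by ring
      _ = 1 := by rw [← hl, e, one_pow])
  have hcyc : 1 + l + l ^ 2 + l ^ 3 + l ^ 4 = 0 := by
    have : (l - 1) * (1 + l + l ^ 2 + l ^ 3 + l ^ 4) = 0 := by linear_combination hl5
    exact (mul_eq_zero.mp this).resolve_left (sub_ne_zero.mpr hl1)
  have hfrob : ∀ x y : F, (x + y) ^ 4 = x ^ 4 + y ^ 4 := fun x y => add_pow_q hF x y
  have hb : (l + l ^ 3) + (l + l ^ 3) ^ 4 = 1 := by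
    rw [hfrob]; linear_combination (l ^ 7 + l ^ 2) * hl5 + hcyc - h2
  have hd₁ : (l + l ^ 4) + (l + l ^ 4) ^ 4 = (0 : F) ^ (4 + 1) := by
    rw [hfrob]; linear_combination (l ^ 11 + l ^ 6 + l) * hl5 + (l + l ^ 4) * h2
  have hd₂ : (l ^ 2 + l ^ 3) + (l ^ 2 + l ^ 3) ^ 4 = (0 : F) ^ (4 + 1) := by
    rw [hfrob]; linear_combination (l ^ 7 + l ^ 2 + l ^ 3) * hl5 + (l ^ 2 + l ^ 3) * h2
  have ht1 : (1 : F) + 1 ^ 4 = (0 : F) ^ (4 + 1) := by linear_combination h2
  let g0 : Matrix (Fin 3) (Fin 3) F := !![k, 0, 0; 0, k, 0; 0, 0, k ^ 3]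
  have hgdet : g0.det = 1 := by
    simp [g0, Matrix.det_fin_three]; linear_combination hk5
  have hgSU : (⟨g0, hgdet⟩ : Matrix.SpecialLinearGroup (Fin 3) F) ∈ Cfsg.SU 3 F 4 := by
    intro x y
    change Cfsg.hermForm 3 F 4 (g0 *ᵥ x) (g0 *ᵥ y) = _
    simp [Cfsg.hermForm, Fin.sum_univ_three, g0, Matrix.mulVec, dotProduct, mul_pow]
    linear_combination (x 0 * y 0 ^ 4 + x 1 * y 1 ^ 4 + x 2 * y 2 ^ 4 * (k ^ 10 + k ^ 5 + 1)) * hk5
  let g : Cfsg.SU 3 F 4 := ⟨_, hgSU⟩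
  have hconj : ∀ {a b a' : F} (h : b + b ^ 4 = a ^ (4 + 1)) (h' : b + b ^ 4 = a' ^ (4 + 1)), a' = l * a →
      g * mk hF h2 a b h * g⁻¹ = mk hF h2 a' b h' := by
    intro a b a' h h' ha
    rw [mul_inv_eq_iff_eq_mul]
    refine Subtype.ext (Subtype.ext ?_)
    rw [Subgroup.coe_mul, Subgroup.coe_mul, Matrix.SpecialLinearGroup.coe_mul,
      Matrix.SpecialLinearGroup.coe_mul, mk_coe, mk_coe]
    change g0 * mat3 4 a b = mat3 4 a' b * g0
    subst ha
    ext i j
    fin_cases i <;> fin_cases j <;> simp [g0, mat3, Matrix.mul_apply, Fin.sum_univ_three, mul_pow, hl] <;>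
      first
        | ring1
        | linear_combination (-(k * a ^ 4) * (k ^ 5 + 1)) * hk5
        | linear_combination (k * a ^ 4) * (k ^ 5 + 1) * hk5
  have hg5 : g ^ 5 = 1 := by
    refine Subtype.ext (Subtype.ext ?_)
    rw [SubmonoidClass.coe_pow, Matrix.SpecialLinearGroup.coe_pow]
    change g0 ^ 5 = 1
    have e : g0 = Matrix.diagonal ![k, k, k ^ 3] := by
      ext i j; fin_cases i <;> fin_cases j <;> simp [g0]
    rw [e, Matrix.diagonal_pow]
    ext i j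
    fin_cases i <;> fin_cases j <;> simp [hk5, ← pow_mul, show k ^ (3 * 5) = 1 by rw [mul_comm, pow_mul, hk5, one_pow]]
  set v := mk hF h2 1 (l + l ^ 3) (by rw [hb, one_pow]) with hv
  have hwi : ∀ i, w g v i = mk hF h2 (l ^ i) (l + l ^ 3) (by
      rw [hb, ← pow_mul, mul_comm, pow_mul, hl5, one_pow]) := by
    intro i
    induction i with
    | zero => rw [w_zero, hv]; exact mk_congr hF h2 (pow_zero l).symm rfl
    | succ i ih => rw [← w_succ, ih]; exact hconj _ _ (pow_succ' l i)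
  have hsum : ∀ i : ℕ, (0 : F) + l ^ i = l ^ i := fun i => zero_add _
  have hbi : ∀ i : ℕ, (l + l ^ 3) + (l + l ^ 3) ^ 4 = (l ^ i) ^ (4 + 1) := fun i => by
    rw [hb, ← pow_mul, mul_comm, pow_mul, hl5, one_pow]
  have hpair : ∀ {a b a' b' d : F} (h : b + b ^ 4 = a ^ (4 + 1)) (h' : b' + b' ^ 4 = a' ^ (4 + 1))
      (hd : d + d ^ 4 = (0 : F) ^ (4 + 1)), d = a ^ 4 * a' + a' ^ 4 * a →
      ⁅mk hF h2 a b h, mk hF h2 a' b' h'⁆ = mk hF h2 0 d hd := by
    intro a b a' b' d h h' hd hdef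
    have hsumA : (b + b' + a ^ 4 * a') + (b + b' + a ^ 4 * a') ^ 4 = (a + a') ^ (4 + 1) := by
      have e4 : (a ^ 4) ^ 4 = a := by
        rw [← pow_mul, show 4 * 4 = Fintype.card F by rw [hF]; norm_num, FiniteField.pow_card]
      rw [hfrob, hfrob, mul_pow, e4, pow_succ (a + a'), hfrob]
      rw [pow_succ a 4] at h; rw [pow_succ a' 4] at h'
      linear_combination h + h'
    have hsumB : (b' + b + a' ^ 4 * a) + (b' + b + a' ^ 4 * a) ^ 4 = (a' + a) ^ (4 + 1) := by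
      have e4 : (a' ^ 4) ^ 4 = a' := by
        rw [← pow_mul, show 4 * 4 = Fintype.card F by rw [hF]; norm_num, FiniteField.pow_card]
      rw [hfrob, hfrob, mul_pow, e4, pow_succ (a' + a), hfrob]
      rw [pow_succ a 4] at h; rw [pow_succ a' 4] at h'
      linear_combination h + h'
    have e1 := mk_mul hF h2 h h' hsumA rfl rfl
    have e2 := mk_mul hF h2 h' h hsumB rfl rfl
    have e3 : mk hF h2 0 d hd * mk hF h2 _ _ hsumB = mk hF h2 _ _ hsumA :=
      mk_mul hF h2 hd hsumB hsumA (by ring) (by rw [hdef]; linear_combination (-(a' ^ 4 * a)) * h2)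
    rw [commutatorElement_def, mul_inv_eq_iff_eq_mul, mul_inv_eq_iff_eq_mul, mul_assoc, e2, e3, e1]
  set d₁ := mk hF h2 0 (l + l ^ 4) hd₁
  set d₂ := mk hF h2 0 (l ^ 2 + l ^ 3) hd₂
  set t := mk hF h2 0 1 ht1
  have hcen : ∀ {a b d : F} (h : b + b ^ 4 = a ^ (4 + 1)) (hd : d + d ^ 4 = (0 : F) ^ (4 + 1)),
      mk hF h2 a b h * mk hF h2 0 d hd = mk hF h2 0 d hd * mk hF h2 a b h := by
    intro a b d h hd
    have hs : (b + d) + (b + d) ^ 4 = a ^ (4 + 1) := by
      rw [hfrob]; rw [zero_pow (by norm_num)] at hd; linear_combination h + hd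
    rw [mk_mul hF h2 h hd hs (add_zero a).symm (by simp),
      mk_mul hF h2 hd h hs (zero_add a).symm (by simp [add_comm])]
  have hgcen : ∀ {d : F} (hd : d + d ^ 4 = (0 : F) ^ (4 + 1)), g * mk hF h2 0 d hd = mk hF h2 0 d hd * g := by
    intro d hd
    exact mul_inv_eq_iff_eq_mul.mp (hconj hd hd (by simp))
  have hinv : ∀ {d : F} (hd : d + d ^ 4 = (0 : F) ^ (4 + 1)), mk hF h2 0 d hd * mk hF h2 0 d hd = 1 := by
    intro d hd
    rw [← mk_zero_eq_one hF h2 (h := by simp)]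
    exact mk_mul hF h2 hd hd _ (add_zero _).symm (by linear_combination -d * h2)
  have hne : ∀ {d : F} (hd : d + d ^ 4 = (0 : F) ^ (4 + 1)), d ≠ 0 → mk hF h2 0 d hd ≠ 1 := by
    intro d hd h0 e
    have := congrArg (fun M : Cfsg.SU 3 F 4 => (M.1 : Matrix (Fin 3) (Fin 3) F) 0 1) e
    simp [mk_coe, mat3] at this
    exact h0 this
  have hd12 : d₁ * d₂ = t := mk_mul hF h2 hd₁ hd₂ ht1 (add_zero _).symm (by
    linear_combination -hcyc + h2)
  refine ⟨t, g, v, d₁, d₂, ?_, ⟨hg5, hgcen _, hgcen _, hcen _ _, hcen _ _, hinv _, hinv _, ?_, ?_, ?_, ?_⟩,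
    hne _ ?_, hne _ ?_, hd12 ▸ hne _ one_ne_zero, ?_, (hgcen _).symm, (hcen _ _).symm, ?_⟩
  · exact orderOf_eq_prime (by rw [pow_two]; exact hinv _) (hne _ one_ne_zero)
  · rw [hd12]; exact mk_mul hF h2 _ _ ht1 (by linear_combination -h2) (by linear_combination -(l + l ^ 3) * h2)
  · rw [hwi, hv]; exact hpair _ _ _ (by ring)
  · rw [hwi, hv]; exact hpair _ _ _ (by linear_combination (-(l ^ 3)) * hl5)
  · have h01 : (l + l ^ 3 + (l + l ^ 3) + 1 ^ 4 * l ^ 1) + (l + l ^ 3 + (l + l ^ 3) + 1 ^ 4 * l ^ 1) ^ 4 =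
        ((1 : F) + l ^ 1) ^ (4 + 1) := by
      rw [show l + l ^ 3 + (l + l ^ 3) + 1 ^ 4 * l ^ 1 = l by linear_combination (l + l ^ 3) * h2,
        pow_succ ((1 : F) + l ^ 1), hfrob]
      linear_combination -hl5 - h2
    have h012 : (l + (l + l ^ 3) + ((1 : F) + l) ^ 4 * l ^ 2) + (l + (l + l ^ 3) + ((1 : F) + l) ^ 4 * l ^ 2) ^ 4 =
        ((1 : F) + l + l ^ 2) ^ (4 + 1) := by
      have e : l + (l + l ^ 3) + ((1 : F) + l) ^ 4 * l ^ 2 = l + l ^ 2 + l ^ 3 := by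
        rw [hfrob]; linear_combination l * hl5 + l * h2
      rw [e, pow_succ ((1 : F) + l + l ^ 2), hfrob, hfrob, hfrob, hfrob]
      linear_combination
        (l ^ 7 - l ^ 5 - l ^ 4 + l ^ 2 - l - 2) * hl5 - hcyc + (-1 + l ^ 2 + l ^ 3) * h2
    rw [hwi 1, hwi 2, hwi 3, hwi 4, hv,
      mk_mul hF h2 _ _ h01 rfl rfl,
      mk_mul hF h2 h01 _ h012 (by rw [pow_one]) (by rw [pow_one]; linear_combination (-(l + l ^ 3)) * h2)]
    refine (mk_mul hF h2 h012 _ _ ?_ ?_).symm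
    · linear_combination hcyc - (1 + l + l ^ 2 + l ^ 3) * h2
    · simp only [hfrob, ← pow_mul, one_pow]; norm_num
      linear_combination (-(l ^ 6 + l ^ 2 + 2 * l)) * hl5 - (2 * l + l ^ 2 + l ^ 3) * h2
  · intro e
    exact hl1 (by linear_combination (1 - l ^ 3 + l) * e + (l ^ 2 - 1) * hl5 - h2)
  · intro e; exact hl1 (by linear_combination l ^ 3 * e - (1 + l) * hl5 - h2)
  · intro e
    have := congrArg (fun M : Cfsg.SU 3 F 4 => (M.1 : Matrix (Fin 3) (Fin 3) F) 0 0) e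
    simp [g, g0] at this
    exact hk1 this
  · exact card_centralizer_le hF h2 (mk_coe hF h2 0 1 ht1)

end Cfsg.Agent.CentU34
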