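import Cfsg.Agent.EqLemmas

/-!
# A presentation of the involution centralizer of `PSU₃(4)`

`Rel g v c₁ c₂`: relations of the group of order 320 on two generators.
* `Rel.card_le`: they generate a subgroup of order at most 320.
* `Rel.exists_hom`: in a group of order 320 generated by `g, v` they define homomorphisms.
-/

set_option autoImplicit false
set_option linter.unusedSectionVars false

open scoped commutatorElement

namespace Cfsg.Agent.CentU34

variable {G : Type*} [Group G]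

/-- The conjugates of `v` under powers of `g`. -/
def w (g v : G) (i : ℕ) : G := g ^ i * v * (g ^ i)⁻¹

/-- The relations. -/
structure Rel (g v c₁ c₂ : G) : Prop where
  hg : g ^ 5 = 1
  hgc₁ : g * c₁ = c₁ * g
  hgc₂ : g * c₂ = c₂ * g
  hvc₁ : v * c₁ = c₁ * v
  hvc₂ : v * c₂ = c₂ * v
  hc₁ : c₁ * c₁ = 1
  hc₂ : c₂ * c₂ = 1
  hsq : v * v = c₁ * c₂
  hcomm₁ : ⁅v, w g v 1⁆ = c₁
  hcomm₂ : ⁅v, w g v 2⁆ = c₂
  hrel : w g v 4 = v * w g v 1 * w g v 2 * w g v 3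

/-- A subgroup extended by an element normalizing it, whose `k`-th power lies in it. -/
theorem card_sup_zpowers_le (M : Subgroup G) [Finite M] (x : G) (k : ℕ) (hk : 0 < k) (hx : x ^ k ∈ M)
    (hn : ∀ m ∈ M, x * m * x⁻¹ ∈ M) :
    Finite (M ⊔ Subgroup.zpowers x : Subgroup G) ∧
      Nat.card (M ⊔ Subgroup.zpowers x : Subgroup G) ≤ k * Nat.card M := by
  have hn' : ∀ (i : ℕ), ∀ m ∈ M, x ^ i * m * (x ^ i)⁻¹ ∈ M := by
    intro i
    induction i with
    | zero => intro m hm; simpa using hm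
    | succ i ih =>
      intro m hm
      rw [show x ^ (i + 1) * m * (x ^ (i + 1))⁻¹ = x * (x ^ i * m * (x ^ i)⁻¹) * x⁻¹ by
        rw [pow_succ']; group]
      exact hn _ (ih m hm)
  have hmul : ∀ m ∈ M, ∀ (i : ℕ), ∀ n ∈ M, ∀ j : ℕ, ∃ p ∈ M, m * x ^ i * (n * x ^ j) = p * x ^ (i + j) :=
    fun m hm i n hn2 j => ⟨m * (x ^ i * n * (x ^ i)⁻¹), mul_mem hm (hn' i n hn2), by rw [pow_add]; group⟩
  let S : Subgroup G :=
    { carrier := {y | ∃ m ∈ M, ∃ i : ℕ, y = m * x ^ i}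
      one_mem' := ⟨1, one_mem _, 0, by simp⟩
      mul_mem' := by
        rintro _ _ ⟨m, hm, i, rfl⟩ ⟨n, hn2, j, rfl⟩
        obtain ⟨p, hp, h⟩ := hmul m hm i n hn2 j
        exact ⟨p, hp, _, h⟩
      inv_mem' := by
        rintro _ ⟨m, hm, i, rfl⟩
        refine ⟨x ^ ((k - 1) * i) * ((x ^ k) ^ i)⁻¹ * m⁻¹ * (x ^ ((k - 1) * i))⁻¹, ?_, (k - 1) * i, ?_⟩
        · rw [mul_assoc _ _ m⁻¹]
          exact hn' _ _ (mul_mem (inv_mem (pow_mem hx i)) (inv_mem hm))
        · rw [inv_mul_cancel_right, ← pow_mul,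
            show k * i = (k - 1) * i + i by rw [← Nat.succ_mul]; congr 1; omega, pow_add]
          group }
  have hle : M ⊔ Subgroup.zpowers x ≤ S :=
    sup_le (fun m hm => ⟨m, hm, 0, by simp⟩) (Subgroup.zpowers_le.mpr ⟨1, one_mem _, 1, by simp⟩)
  let f : M × Fin k → (M ⊔ Subgroup.zpowers x : Subgroup G) := fun p =>
    ⟨p.1.1 * x ^ (p.2 : ℕ), Subgroup.mul_mem_sup p.1.2 (pow_mem (Subgroup.mem_zpowers x) _)⟩
  have hf : Function.Surjective f := by
    rintro ⟨y, hy⟩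
    obtain ⟨m, hm, i, rfl⟩ := hle hy
    refine ⟨⟨⟨m * (x ^ k) ^ (i / k), mul_mem hm (pow_mem hx _)⟩, ⟨i % k, Nat.mod_lt _ hk⟩⟩, Subtype.ext ?_⟩
    show m * (x ^ k) ^ (i / k) * x ^ (i % k) = m * x ^ i
    rw [mul_assoc, ← pow_mul, ← pow_add, Nat.div_add_mod]
  refine ⟨Finite.of_surjective f hf, (Nat.card_le_card_of_surjective f hf).trans (le_of_eq ?_)⟩
  rw [Nat.card_prod, Nat.card_eq_fintype_card (α := Fin k), Fintype.card_fin, mul_comm]

variable {g v c₁ c₂ : G}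

theorem w_succ (g v : G) (i : ℕ) : g * w g v i * g⁻¹ = w g v (i + 1) := by
  rw [w, w, pow_succ']; group

theorem w_zero (g v : G) : w g v 0 = v := by simp [w]

theorem Rel.card_le (h : Rel g v c₁ c₂) :
    Finite (Subgroup.closure ({g, v} : Set G)) ∧ Nat.card (Subgroup.closure ({g, v} : Set G)) ≤ 320 ∧
      Nat.card (Subgroup.closure ({g, v} : Set G)) ≤ 80 * Nat.card (Subgroup.closure ({c₁, c₂} : Set G)) := by
  have hgp₁ : ∀ i, g ^ i * c₁ = c₁ * g ^ i := fun i => (Commute.pow_left h.hgc₁ i).eq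
  have hgp₂ : ∀ i, g ^ i * c₂ = c₂ * g ^ i := fun i => (Commute.pow_left h.hgc₂ i).eq
  have hconj : ∀ (i : ℕ) (a b : G), g ^ i * ⁅a, b⁆ * (g ^ i)⁻¹ =
      ⁅g ^ i * a * (g ^ i)⁻¹, g ^ i * b * (g ^ i)⁻¹⁆ := fun i a b => by
    simp only [commutatorElement_def]; group
  have hshift : ∀ i j, g ^ i * w g v j * (g ^ i)⁻¹ = w g v (i + j) := fun i j => by
    rw [w, w, pow_add]; group
  have hwi : ∀ i, g ^ i * v * (g ^ i)⁻¹ = w g v i := fun i => rfl
  have hwc₁ : ∀ i, w g v i * c₁ = c₁ * w g v i := fun i => by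
    have e : (g ^ i)⁻¹ * c₁ = c₁ * (g ^ i)⁻¹ := ((Commute.inv_left (hgp₁ i)) : _)
    rw [w, mul_assoc, e, ← mul_assoc, mul_assoc (g ^ i), h.hvc₁, ← mul_assoc, hgp₁]; group
  have hwc₂ : ∀ i, w g v i * c₂ = c₂ * w g v i := fun i => by
    have e : (g ^ i)⁻¹ * c₂ = c₂ * (g ^ i)⁻¹ := ((Commute.inv_left (hgp₂ i)) : _)
    rw [w, mul_assoc, e, ← mul_assoc, mul_assoc (g ^ i), h.hvc₂, ← mul_assoc, hgp₂]; group
  have hcc : c₁ * c₂ = c₂ * c₁ := by
    have := hwc₂ 0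
    rw [w_zero, ← h.hcomm₁] at *
    rw [commutatorElement_def]
    have e1 : ∀ a : G, a * c₂ = c₂ * a → a⁻¹ * c₂ = c₂ * a⁻¹ := fun a ha => ((Commute.inv_left ha) : _)
    rw [mul_assoc, e1 _ (hwc₂ 1), ← mul_assoc, mul_assoc (v * _), e1 _ h.hvc₂, ← mul_assoc,
      mul_assoc v, hwc₂ 1, ← mul_assoc, h.hvc₂]
    group
  -- the commutators
  have hd₁ : ∀ i, ⁅w g v i, w g v (i + 1)⁆ = c₁ := fun i => by
    rw [← hwi, ← hshift i 1, ← hconj, h.hcomm₁, hgp₁, mul_inv_cancel_right]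
  have hd₂ : ∀ i, ⁅w g v i, w g v (i + 2)⁆ = c₂ := fun i => by
    rw [← hwi, ← hshift i 2, ← hconj, h.hcomm₂, hgp₂, mul_inv_cancel_right]
  have hd₃ : ⁅v, w g v 3⁆ = c₂ := by
    have e := hd₂ 3
    rw [show w g v (3 + 2) = v by rw [w, h.hg]; group] at e
    rw [← commutatorElement_inv, e, inv_eq_of_mul_eq_one_right h.hc₂]
  have hsqw : ∀ i, w g v i * w g v i = c₁ * c₂ := fun i => by
    rw [← h.hsq, w, show g ^ i * v * (g ^ i)⁻¹ * (g ^ i * v * (g ^ i)⁻¹) = g ^ i * (v * v) * (g ^ i)⁻¹ by group,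
      h.hsq, ← mul_assoc, hgp₁, mul_assoc c₁, hgp₂, mul_assoc, mul_assoc, mul_inv_cancel, mul_one]
  -- the chain
  have key : ∀ (M : Subgroup G), c₁ ∈ M → c₂ ∈ M → ∀ a b : G, (⁅a, b⁆ = c₁ ∨ ⁅a, b⁆ = c₂) → b ∈ M →
      a * b * a⁻¹ ∈ M ∧ b * a * b⁻¹ * a⁻¹ ∈ M := by
    intro M h₁ h₂ a b hab hb
    have hm : ⁅a, b⁆ ∈ M := by rcases hab with e | e <;> rw [e] <;> assumption
    refine ⟨?_, ?_⟩
    · rw [show a * b * a⁻¹ = ⁅a, b⁆ * b by rw [commutatorElement_def]; group]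
      exact mul_mem hm hb
    · rw [show b * a * b⁻¹ * a⁻¹ = ⁅a, b⁆⁻¹ by rw [commutatorElement_def]; group]
      exact inv_mem hm
  have step : ∀ (M : Subgroup G) (s : Set G), M = Subgroup.closure s → ∀ (x : G), (∀ m ∈ s, x * m * x⁻¹ ∈ M) →
      ∀ m ∈ M, x * m * x⁻¹ ∈ M := by
    rintro M s rfl x hs m hm
    induction hm using Subgroup.closure_induction with
    | mem m hm => exact hs m hm
    | one => simp
    | mul a b _ _ ha hb =>
      rw [show x * (a * b) * x⁻¹ = x * a * x⁻¹ * (x * b * x⁻¹) by group]; exact mul_mem ha hb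
    | inv a _ ha => rw [show x * a⁻¹ * x⁻¹ = (x * a * x⁻¹)⁻¹ by group]; exact inv_mem ha
  set M0 := Subgroup.zpowers c₁
  have hM0 : Finite M0 ∧ Nat.card M0 ≤ 2 := by
    have hfin : IsOfFinOrder c₁ := isOfFinOrder_iff_pow_eq_one.mpr ⟨2, two_pos, by rw [pow_two]; exact h.hc₁⟩
    exact ⟨hfin.finite_zpowers, by
      rw [Nat.card_zpowers]; exact orderOf_le_of_pow_eq_one two_pos (by rw [pow_two]; exact h.hc₁)⟩
  haveI := hM0.1
  set M1 := M0 ⊔ Subgroup.zpowers c₂ with hM1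
  obtain ⟨f1, k1⟩ := card_sup_zpowers_le M0 c₂ 2 two_pos (by rw [pow_two, h.hc₂]; exact one_mem _)
    (step M0 {c₁} (Subgroup.zpowers_eq_closure c₁) c₂ (by
      rintro m rfl
      rw [← hcc, mul_inv_cancel_right]; exact Subgroup.mem_zpowers _))
  rw [← hM1] at f1 k1
  have hc1M : c₁ ∈ M1 := Subgroup.mem_sup_left (Subgroup.mem_zpowers _)
  have hc2M : c₂ ∈ M1 := Subgroup.mem_sup_right (Subgroup.mem_zpowers _)
  have e1 : M1 = Subgroup.closure {c₁, c₂} := by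
    rw [Set.insert_eq, Subgroup.closure_union, ← Subgroup.zpowers_eq_closure, ← Subgroup.zpowers_eq_closure]
  have hs : ∀ (M : Subgroup G), c₁ ∈ M → c₂ ∈ M → ∀ i, w g v i ^ 2 ∈ M := fun M a b i => by
    rw [pow_two, hsqw]; exact mul_mem a b
  have hconjc : ∀ (M : Subgroup G), c₁ ∈ M → c₂ ∈ M → ∀ i, ∀ m ∈ ({c₁, c₂} : Set G),
      w g v i * m * (w g v i)⁻¹ ∈ M := by
    rintro M a b i m (rfl | rfl)
    · rw [hwc₁, mul_inv_cancel_right]; exact a
    · rw [hwc₂, mul_inv_cancel_right]; exact b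
  haveI := f1
  set M2 := M1 ⊔ Subgroup.zpowers (w g v 0) with hM2
  obtain ⟨f2, k2⟩ := card_sup_zpowers_le M1 (w g v 0) 2 two_pos (hs M1 hc1M hc2M 0)
    (step M1 _ e1 _ (hconjc M1 hc1M hc2M 0))
  rw [← hM2] at f2 k2
  have e2 : M2 = Subgroup.closure ({c₁, c₂} ∪ {w g v 0}) := by
    rw [Subgroup.closure_union, ← e1, ← Subgroup.zpowers_eq_closure]
  haveI := f2
  set M3 := M2 ⊔ Subgroup.zpowers (w g v 1) with hM3
  have a2 : c₁ ∈ M2 := Subgroup.mem_sup_left hc1M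
  have b2 : c₂ ∈ M2 := Subgroup.mem_sup_left hc2M
  obtain ⟨f3, k3⟩ := card_sup_zpowers_le M2 (w g v 1) 2 two_pos (hs M2 a2 b2 1)
    (step M2 _ e2 _ (by
      rintro m (hm | rfl)
      · exact hconjc M2 a2 b2 1 m hm
      · refine (key M2 a2 b2 _ _ (Or.inl ?_) (Subgroup.mem_sup_right (Subgroup.mem_zpowers _))).1
        rw [← commutatorElement_inv, hd₁ 0, inv_eq_of_mul_eq_one_right h.hc₁]))
  rw [← hM3] at f3 k3
  have e3 : M3 = Subgroup.closure ({c₁, c₂} ∪ {w g v 0} ∪ {w g v 1}) := by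
    rw [Subgroup.closure_union, ← e2, ← Subgroup.zpowers_eq_closure]
  haveI := f3
  set M4 := M3 ⊔ Subgroup.zpowers (w g v 2) with hM4
  have a3 : c₁ ∈ M3 := Subgroup.mem_sup_left a2
  have b3 : c₂ ∈ M3 := Subgroup.mem_sup_left b2
  obtain ⟨f4, k4⟩ := card_sup_zpowers_le M3 (w g v 2) 2 two_pos (hs M3 a3 b3 2)
    (step M3 _ e3 _ (by
      rintro m ((hm | rfl) | rfl)
      · exact hconjc M3 a3 b3 2 m hm
      · refine (key M3 a3 b3 _ _ (Or.inr ?_) (Subgroup.mem_sup_left (Subgroup.mem_sup_right (Subgroup.mem_zpowers _)))).1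
        rw [← commutatorElement_inv, hd₂ 0, inv_eq_of_mul_eq_one_right h.hc₂]
      · refine (key M3 a3 b3 _ _ (Or.inl ?_) (Subgroup.mem_sup_right (Subgroup.mem_zpowers _))).1
        rw [← commutatorElement_inv, hd₁ 1, inv_eq_of_mul_eq_one_right h.hc₁]))
  rw [← hM4] at f4 k4
  have e4 : M4 = Subgroup.closure ({c₁, c₂} ∪ {w g v 0} ∪ {w g v 1} ∪ {w g v 2}) := by
    rw [Subgroup.closure_union, ← e3, ← Subgroup.zpowers_eq_closure]
  haveI := f4
  set T := M4 ⊔ Subgroup.zpowers (w g v 3) with hT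
  have a4 : c₁ ∈ M4 := Subgroup.mem_sup_left a3
  have b4 : c₂ ∈ M4 := Subgroup.mem_sup_left b3
  have m0 : w g v 0 ∈ M4 :=
    Subgroup.mem_sup_left (Subgroup.mem_sup_left (Subgroup.mem_sup_right (Subgroup.mem_zpowers _)))
  have m1 : w g v 1 ∈ M4 := Subgroup.mem_sup_left (Subgroup.mem_sup_right (Subgroup.mem_zpowers _))
  have m2 : w g v 2 ∈ M4 := Subgroup.mem_sup_right (Subgroup.mem_zpowers _)
  obtain ⟨f5, k5⟩ := card_sup_zpowers_le M4 (w g v 3) 2 two_pos (hs M4 a4 b4 3)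
    (step M4 _ e4 _ (by
      rintro m (((hm | rfl) | rfl) | rfl)
      · exact hconjc M4 a4 b4 3 m hm
      · refine (key M4 a4 b4 _ _ (Or.inr ?_) m0).1
        rw [← commutatorElement_inv, w_zero, hd₃, inv_eq_of_mul_eq_one_right h.hc₂]
      · refine (key M4 a4 b4 _ _ (Or.inr ?_) m1).1
        rw [← commutatorElement_inv, hd₂ 1, inv_eq_of_mul_eq_one_right h.hc₂]
      · refine (key M4 a4 b4 _ _ (Or.inl ?_) m2).1
        rw [← commutatorElement_inv, hd₁ 2, inv_eq_of_mul_eq_one_right h.hc₁]))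
  rw [← hT] at f5 k5
  have e5 : T = Subgroup.closure ({c₁, c₂} ∪ {w g v 0} ∪ {w g v 1} ∪ {w g v 2} ∪ {w g v 3}) := by
    rw [Subgroup.closure_union, ← e4, ← Subgroup.zpowers_eq_closure]
  haveI := f5
  have n0 : w g v 0 ∈ T := Subgroup.mem_sup_left m0
  have n1 : w g v 1 ∈ T := Subgroup.mem_sup_left m1
  have n2 : w g v 2 ∈ T := Subgroup.mem_sup_left m2
  have n3 : w g v 3 ∈ T := Subgroup.mem_sup_right (Subgroup.mem_zpowers _)
  have n4 : w g v 4 ∈ T := by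
    rw [h.hrel, ← w_zero g v]
    simp only [w_zero] at n0 ⊢
    exact mul_mem (mul_mem (mul_mem n0 n1) n2) n3
  set K := T ⊔ Subgroup.zpowers g with hK
  obtain ⟨f6, k6⟩ := card_sup_zpowers_le T g 5 (by norm_num) (by rw [h.hg]; exact one_mem _)
    (step T _ e5 g (by
      rintro m (((((rfl | rfl) | rfl) | rfl) | rfl) | rfl)
      · rw [h.hgc₁, mul_inv_cancel_right]; exact Subgroup.mem_sup_left a4
      · rw [h.hgc₂, mul_inv_cancel_right]; exact Subgroup.mem_sup_left b4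
      · rw [w_succ]; exact n1
      · rw [w_succ]; exact n2
      · rw [w_succ]; exact n3
      · rw [w_succ]; exact n4))
  rw [← hK] at f6 k6
  haveI := f6
  have hle : Subgroup.closure ({g, v} : Set G) ≤ K := by
    rw [Subgroup.closure_le]
    rintro x (rfl | rfl)
    · exact Subgroup.mem_sup_right (Subgroup.mem_zpowers _)
    · exact Subgroup.mem_sup_left (by rw [← w_zero g x]; exact n0)
  refine ⟨Finite.of_injective _ (Subgroup.inclusion_injective hle), ?_, ?_⟩ <;>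
    have := Nat.card_le_card_of_injective _ (Subgroup.inclusion_injective hle) <;>
    have := hM0.2
  · omega
  · rw [← e1]; omega

/-- The relations define a homomorphism on a group of order 320 generated by `g, v`. -/
theorem Rel.exists_hom {H : Type*} [Group H] (h : Rel g v c₁ c₂) (hgen : Subgroup.closure ({g, v} : Set G) = ⊤)
    (hcard : Nat.card G = 320) {g' v' d₁ d₂ : H} (h' : Rel g' v' d₁ d₂) :
    ∃ φ : G →* H, φ g = g' ∧ φ v = v' := by
  have hw : ∀ i, w ((g, g') : G × H) (v, v') i = (w g v i, w g' v' i) := fun i => by simp [w]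
  have hr : Rel ((g, g') : G × H) (v, v') (c₁, d₁) (c₂, d₂) := by
    constructor
    · exact Prod.ext h.hg h'.hg
    · exact Prod.ext h.hgc₁ h'.hgc₁
    · exact Prod.ext h.hgc₂ h'.hgc₂
    · exact Prod.ext h.hvc₁ h'.hvc₁
    · exact Prod.ext h.hvc₂ h'.hvc₂
    · exact Prod.ext h.hc₁ h'.hc₁
    · exact Prod.ext h.hc₂ h'.hc₂
    · exact Prod.ext h.hsq h'.hsq
    · rw [hw]; exact Prod.ext h.hcomm₁ h'.hcomm₁
    · rw [hw]; exact Prod.ext h.hcomm₂ h'.hcomm₂
    · simp only [hw]; exact Prod.ext h.hrel h'.hrel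
  obtain ⟨hfin, hle, -⟩ := hr.card_le
  haveI := hfin
  set K := Subgroup.closure ({(g, g'), (v, v')} : Set (G × H))
  let p : K →* G := (MonoidHom.fst G H).comp K.subtype
  have hsurj : Function.Surjective p := by
    rw [← MonoidHom.range_eq_top, eq_top_iff, ← hgen, Subgroup.closure_le]
    rintro x (rfl | rfl)
    · exact ⟨⟨_, Subgroup.subset_closure (Or.inl rfl)⟩, rfl⟩
    · exact ⟨⟨_, Subgroup.subset_closure (Or.inr rfl)⟩, rfl⟩
  have hge := Nat.card_le_card_of_surjective p hsurj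
  have hbij : Function.Bijective p :=
    (Nat.bijective_iff_surjective_and_card p).mpr ⟨hsurj, by omega⟩
  let e := MulEquiv.ofBijective p hbij
  refine ⟨(MonoidHom.snd G H).comp (K.subtype.comp e.symm.toMonoidHom), ?_, ?_⟩
  · have : e.symm g = ⟨(g, g'), Subgroup.subset_closure (Or.inl rfl)⟩ := e.symm_apply_eq.mpr rfl
    simp [this]
  · have : e.symm v = ⟨(v, v'), Subgroup.subset_closure (Or.inr rfl)⟩ := e.symm_apply_eq.mpr rfl
    simp [this]

end Cfsg.Agent.CentU34
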